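import Mathlib
import Groth.Agent.CSA.Index
import Groth.Agent.CSA.MaximalSubfield

/-!
# Division algebras of dimension four are quaternion algebras
-/

set_option linter.style.haveILetI false

universe u v

open scoped TensorProduct

namespace Groth.Agent.Quat28

variable {k : Type u} [Field k]

theorem exists_quaternion_of_division (h2 : (2 : k) ≠ 0) (D : Type v) [DivisionRing D] [Algebra k D]
    [Algebra.IsCentral k D] [FiniteDimensional k D] (hdim : Module.finrank k D = 4) :
    ∃ a b : k, Nonempty (QuaternionAlgebra k a 0 b ≃ₐ[k] D) := by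
  obtain ⟨x, -, hx⟩ := CSA.exists_separable_maximal k (D := D)
  rw [hdim] at hx
  have hx2 : Module.finrank k (Algebra.adjoin k ({x} : Set D)) = 2 := by
    apply Nat.pow_left_injective two_ne_zero
    show _ ^ 2 = 2 ^ 2
    rw [hx]
  have hxk : x ∉ Set.range (algebraMap k D) := by
    rintro ⟨c, rfl⟩
    rw [show Algebra.adjoin k ({algebraMap k D c} : Set D) = ⊥ from le_bot_iff.1
      (Algebra.adjoin_le (Set.singleton_subset_iff.2 (Subalgebra.algebraMap_mem ⊥ c))), Subalgebra.finrank_bot] at hx2
    omega
  obtain ⟨c0, c1, hxx⟩ : ∃ c0 c1 : k, x * x = algebraMap k D c0 + algebraMap k D c1 * x := by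
    set S := Algebra.adjoin k ({x} : Set D)
    have hxS : x ∈ S := Algebra.self_mem_adjoin_singleton k x
    let e : Fin 2 → S := ![1, ⟨x, hxS⟩]
    have hli : LinearIndependent k e := by
      rw [LinearIndependent.pair_iff]
      intro s t h
      have h' : s • (1 : D) + t • x = 0 := congrArg Subtype.val h
      have ht : t = 0 := by
        by_contra ht
        refine hxk ⟨-(s / t), smul_right_injective D ht ?_⟩
        show t • algebraMap k D (-(s / t)) = t • x
        rw [eq_neg_of_add_eq_zero_right h', Algebra.algebraMap_eq_smul_one, smul_smul, ← neg_smul]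
        congr 1
        field_simp
      refine ⟨?_, ht⟩
      rw [ht, zero_smul, add_zero] at h'
      exact (smul_eq_zero.1 h').resolve_right one_ne_zero
    have hsp := hli.span_eq_top_of_card_eq_finrank (by rw [Fintype.card_fin, hx2])
    have hmem : (⟨x * x, S.mul_mem hxS hxS⟩ : S) ∈ Submodule.span k (Set.range e) := hsp ▸ Submodule.mem_top
    obtain ⟨c, hc⟩ := (Submodule.mem_span_range_iff_exists_fun k).1 hmem
    refine ⟨c 0, c 1, ?_⟩
    have h := congrArg Subtype.val hc
    simpa [Fin.sum_univ_two, e, Algebra.smul_def] using h.symm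
  let h : k := c1 / 2
  set i : D := x - algebraMap k D h with hi_def
  have hik : i ∉ Set.range (algebraMap k D) := by
    rintro ⟨c, hc⟩
    exact hxk ⟨c + h, by rw [map_add, hc, hi_def, sub_add_cancel]⟩
  let a : k := c0 + h * h
  have hii : i * i = algebraMap k D a := by
    have hc : c1 = h + h := by simp only [h]; field_simp; norm_num
    rw [hi_def, sub_mul, mul_sub, mul_sub, hxx, (Algebra.commutes h x).symm, hc]
    simp only [a, map_add, map_mul, add_mul]
    abel
  clear_value i
  have hi0 : i ≠ 0 := fun e => hik ⟨0, by rw [map_zero, e]⟩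
  obtain ⟨y, hy⟩ : ∃ y, i * y ≠ y * i := by
    by_contra hall
    push Not at hall
    have : i ∈ Subalgebra.center k D := Subalgebra.mem_center_iff.2 fun y => (hall y).symm
    rw [Algebra.IsCentral.center_eq_bot, Algebra.mem_bot] at this
    exact hik this
  set j : D := i * y - y * i with hj_def
  have hj0 : j ≠ 0 := sub_ne_zero.2 hy
  have hij : j * i = -(i * j) := by
    have h1 : i * i * y = y * (i * i) := by rw [hii]; exact Algebra.commutes a y
    rw [hj_def, sub_mul, mul_sub, ← mul_assoc, h1]
    simp only [mul_assoc]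
    abel
  clear_value j
  haveI : NeZero (2 : D) := ⟨by
    rw [← map_ofNat (algebraMap k D) 2]
    exact (map_ne_zero _).2 h2⟩
  have key : ∀ c0 c1 : k, (algebraMap k D c0 + algebraMap k D c1 * i) * j = j * (algebraMap k D c0 + algebraMap k D c1 * i) →
      c1 = 0 := by
    intro c0 c1 h
    have h1 : algebraMap k D c1 * ((2 : D) * (i * j)) = 0 := by
      rw [add_mul, mul_add, Algebra.commutes c0 j, add_right_inj, mul_assoc, ← mul_assoc j,
        ← Algebra.commutes c1 j, mul_assoc, hij, mul_neg] at h
      rw [two_mul, mul_add]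
      exact add_eq_zero_iff_eq_neg.2 h
    rcases mul_eq_zero.1 h1 with h' | h'
    · exact (map_eq_zero _).1 h'
    · rcases mul_eq_zero.1 h' with h'' | h''
      · exact absurd h'' two_ne_zero
      · exact absurd h'' (mul_ne_zero hi0 hj0)
  have hlin : ∀ c0 c1 c2 c3 : k, algebraMap k D c0 + algebraMap k D c1 * i + algebraMap k D c2 * j +
      algebraMap k D c3 * (i * j) = 0 → c0 = 0 ∧ c1 = 0 ∧ c2 = 0 ∧ c3 = 0 := by
    intro c0 c1 c2 c3 h
    set α := algebraMap k D c0 + algebraMap k D c1 * i
    set γ := algebraMap k D c2 + algebraMap k D c3 * i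
    have h' : α + γ * j = 0 := by
      rw [← h]
      simp only [γ, add_mul, mul_assoc]
      abel
    have hcomm : ∀ d0 d1 : k, i * (algebraMap k D d0 + algebraMap k D d1 * i) = (algebraMap k D d0 + algebraMap k D d1 * i) * i := by
      intro d0 d1
      rw [mul_add, add_mul, ← Algebra.commutes d0 i, ← mul_assoc, ← Algebra.commutes d1 i, mul_assoc]
    have h1 : i * (α + γ * j) - (α + γ * j) * i = γ * ((2 : D) * (i * j)) := by
      have hα : i * α = α * i := hcomm c0 c1
      have hγc : i * γ = γ * i := hcomm c2 c3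
      clear_value α γ
      rw [mul_add, add_mul, hα, mul_assoc γ j i, hij, ← mul_assoc, hγc, mul_assoc, two_mul]
      simp only [mul_neg, mul_add]
      abel
    rw [h', mul_zero, zero_mul, sub_zero] at h1
    have hγ : γ = 0 := (mul_eq_zero.1 h1.symm).resolve_right (mul_ne_zero two_ne_zero (mul_ne_zero hi0 hj0))
    rw [hγ, zero_mul, add_zero] at h'
    have hc1 := key c0 c1 (show α * j = j * α by rw [h', zero_mul, mul_zero])
    have hc3 := key c2 c3 (show γ * j = j * γ by rw [hγ, zero_mul, mul_zero])
    refine ⟨?_, hc1, ?_, hc3⟩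
    · have : algebraMap k D c0 = 0 := by simpa [α, hc1] using h'
      exact (map_eq_zero _).1 this
    · have : algebraMap k D c2 = 0 := by simpa [γ, hc3] using hγ
      exact (map_eq_zero _).1 this
  let e : Fin 4 → D := ![1, i, j, i * j]
  have hli : LinearIndependent k e := by
    rw [Fintype.linearIndependent_iff]
    intro g hg
    obtain ⟨h0, h1, h2', h3⟩ := hlin (g 0) (g 1) (g 2) (g 3) (by
      simpa [Fin.sum_univ_four, e, Algebra.smul_def] using hg)
    intro m
    fin_cases m <;> assumption
  have hsp := hli.span_eq_top_of_card_eq_finrank (by rw [Fintype.card_fin, hdim])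
  have hjc : j * j ∈ Subalgebra.center k D := by
    refine Subalgebra.mem_center_iff.2 fun z => ?_
    have hz : z ∈ Submodule.span k (Set.range e) := hsp ▸ Submodule.mem_top
    have hci : i * (j * j) = j * j * i := by
      rw [mul_assoc, hij, mul_neg, ← mul_assoc j, hij, neg_mul, neg_neg, mul_assoc]
    induction hz using Submodule.span_induction with
    | mem w hw =>
      obtain ⟨m, rfl⟩ := hw
      fin_cases m
      · simp [e]
      · simpa [e] using hci
      · simp [e, mul_assoc]
      · show i * j * (j * j) = j * j * (i * j)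
        rw [mul_assoc i j, ← mul_assoc (j * j) i, ← hci, mul_assoc i (j * j) j, mul_assoc j j j]
    | zero => simp
    | add p q _ _ hp hq => rw [add_mul, mul_add, hp, hq]
    | smul c p _ hp => rw [smul_mul_assoc, mul_smul_comm, hp]
  rw [Algebra.IsCentral.center_eq_bot, Algebra.mem_bot] at hjc
  obtain ⟨b, hb⟩ := hjc
  let q : QuaternionAlgebra.Basis D a 0 b :=
    { i := i
      j := j
      k := i * j
      i_mul_i := by rw [hii, zero_smul, add_zero, Algebra.algebraMap_eq_smul_one]
      j_mul_j := by rw [← hb, Algebra.algebraMap_eq_smul_one]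
      i_mul_j := rfl
      j_mul_i := by rw [hij, zero_smul, zero_sub] }
  have hinj : Function.Injective q.liftHom.toLinearMap := by
    refine (injective_iff_map_eq_zero _).2 fun w hw => ?_
    obtain ⟨h0, h1, h2', h3⟩ := hlin w.re w.imI w.imJ w.imK (by
      simpa [QuaternionAlgebra.Basis.lift, Algebra.smul_def, q] using hw)
    ext <;> assumption
  refine ⟨a, b, ⟨AlgEquiv.ofBijective q.liftHom ⟨hinj, ?_⟩⟩⟩
  exact (q.liftHom.toLinearMap.injective_iff_surjective_of_finrank_eq_finrank
    (by rw [QuaternionAlgebra.finrank_eq_four, hdim])).1 hinj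

/-- The conjugation identifies a quaternion algebra with its opposite. -/
def quatOp (a b : k) : QuaternionAlgebra k a 0 b ≃ₐ[k] (QuaternionAlgebra k a 0 b)ᵐᵒᵖ :=
  AlgEquiv.ofRingEquiv (f := starRingEquiv (R := QuaternionAlgebra k a 0 b)) fun r => by
    simp only [starRingEquiv_apply, MulOpposite.algebraMap_apply]
    exact congrArg MulOpposite.op (by ext <;> simp [QuaternionAlgebra.coe_algebraMap])

theorem isPeriod_two {A : Type v} [Ring A] [Algebra k A] [CSA.IsCSA k A] (hA : CSAGal.IsIndex k A 2)
    (a b : k) [CSA.IsCSA k (QuaternionAlgebra k a 0 b)] (h : CSA.BrEq k A (QuaternionAlgebra k a 0 b)) :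
    CSAGal.IsPeriod k A 2 := by
  have h2 : CSA.BrEq k (CSA.TPow k A 2) k :=
    (CSA.BrEq.tpow_succ A 1).trans <|
      ((CSA.BrEq.of_algEquiv k (CSA.tpowOne k A)).tensor_right A).trans <|
        (h.tensor h).trans <|
          ((CSA.BrEq.of_algEquiv k (quatOp a b)).tensor_left _).trans (CSA.BrEq.tensor_op _)
  have h1 : ¬ CSA.BrEq k (CSA.TPow k A 1) k := fun h1 =>
    absurd (CSA.isIndex_unique hA (CSA.isIndex_one_iff.2
      ((CSA.BrEq.of_algEquiv k (CSA.tpowOne k A)).symm.trans h1))) (by norm_num)
  refine (CSA.isPeriod_iff two_pos).2 fun n => ?_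
  have hmul : ∀ q, CSA.BrEq k (CSA.TPow k A (2 * q)) k := fun q =>
    (CSA.BrEq.tpow_mul A 2 q).symm.trans ((h2.tpow q).trans (CSA.tpow_one_brEq q))
  refine ⟨fun hn => ?_, fun ⟨q, hq⟩ => hq ▸ hmul q⟩
  rw [Nat.dvd_iff_mod_eq_zero]
  by_contra hne
  have hmod : n % 2 = 1 := by omega
  refine h1 (CSA.tpow_trivial_sub (a := 2 * (n / 2)) (hmul _) ?_)
  rw [← hmod, Nat.div_add_mod]
  exact hn

end Groth.Agent.Quat28
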